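import Groth.Agent.CurveBound.Basic
import Groth.Agent.DCohBridge.StalkExact

/-! Subbundles of maximal slope and, among those, of maximal rank exist. -/

set_option autoImplicit false
set_option backward.isDefEq.respectTransparency false
set_option backward.isDefEq.respectTransparency.types false

noncomputable section

universe u

open CategoryTheory Limits AlgebraicGeometry Opposite TopologicalSpace Groth.Agent.QCohBase

namespace Groth.Agent.CurveBound

variable {k : Type u} [Field k] {X : Scheme.{u}} [X.Over (Spec (CommRingCat.of k))]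
  [IsProper (X ↘ Spec (CommRingCat.of k))]

theorem nonempty_of_dim_eq_one (hdim : topologicalKrullDim X = 1) : Nonempty X := by
  by_contra h
  haveI := not_nonempty_iff.1 h
  haveI : IsEmpty (IrreducibleCloseds X) := ⟨fun a => a.isIrreducible.nonempty.elim fun x _ => isEmptyElim x⟩
  rw [topologicalKrullDim, Order.krullDim_eq_bot] at hdim
  exact WithBot.bot_ne_one hdim

include k in
theorem rank_le_of_mono [Nonempty X] {E F : X.Modules} {r n : ℕ} (hE : FlatMod.IsFinLocFreeOfRank r E)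
    (hF : FlatMod.IsFinLocFreeOfRank n F) (i : F ⟶ E) [Mono i] : n ≤ r := by
  have := CurveDeg.isNoetherian_of_proper (k := k) (X := X)
  obtain ⟨y⟩ := ‹Nonempty X›
  haveI : Module.Finite (X.presheaf.stalk y) (F.presheaf.stalk y) :=
    QuasiFlatLib.finite_stalk _ (CurveDeg.isCoh_of_rank hF) y
  haveI : Module.Finite (X.presheaf.stalk y) (E.presheaf.stalk y) :=
    QuasiFlatLib.finite_stalk _ (CurveDeg.isCoh_of_rank hE) y
  rw [← CurveDeg.finrank_stalk hF y, ← CurveDeg.finrank_stalk hE y]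
  exact LinearMap.finrank_le_finrank_of_injective (f := ((DerSch.stalkFunctor X y).map i).hom)
    ((ModuleCat.mono_iff_injective _).1 ((DerSch.stalkFunctor X y).map_mono i))

include k in
/-- A subbundle of maximal slope and of maximal rank among those of maximal slope. -/
theorem exists_max (hdim : topologicalKrullDim X = 1) {E : X.Modules} {r : ℕ} (hr : 0 < r)
    (hE : FlatMod.IsFinLocFreeOfRank r E) :
    ∃ (E₁ : X.Modules) (r₁ : ℕ) (i₁ : E₁ ⟶ E), Mono i₁ ∧ 0 < r₁ ∧ FlatMod.IsFinLocFreeOfRank r₁ E₁ ∧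
      (∀ (G : X.Modules) (r' : ℕ) (j : G ⟶ E), Mono j → 0 < r' → FlatMod.IsFinLocFreeOfRank r' G →
        Curv2.deg k X G r' * (r₁ : ℤ) ≤ Curv2.deg k X E₁ r₁ * (r' : ℤ)) ∧
      (∀ (G : X.Modules) (r' : ℕ) (j : G ⟶ E), Mono j → 0 < r' → FlatMod.IsFinLocFreeOfRank r' G →
        Curv2.deg k X G r' * (r₁ : ℤ) = Curv2.deg k X E₁ r₁ * (r' : ℤ) → r' ≤ r₁) := by
  classical
  haveI := nonempty_of_dim_eq_one hdim
  let N : ℕ := r.factorial
  let key : ℤ → ℕ → ℤ := fun d n => d * ((N / n : ℕ) : ℤ) * (r + 1) + n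
  have hNn : ∀ n : ℕ, 0 < n → n ≤ r → ((N / n : ℕ) : ℤ) * n = N := fun n h1 h2 => by
    exact_mod_cast Nat.div_mul_cancel (Nat.dvd_factorial h1 h2)
  let P : ℤ → Prop := fun z => ∃ (G : X.Modules) (n : ℕ) (j : G ⟶ E), Mono j ∧ 0 < n ∧
    FlatMod.IsFinLocFreeOfRank n G ∧ z = key (Curv2.deg k X G n) n
  have hbdd : ∃ b : ℤ, ∀ z : ℤ, P z → z ≤ b := by
    let h : ℤ := (Module.finrank k (Coh.HH X E 0) : ℤ)
    refine ⟨(h + r * (Curv2.genus k X : ℤ)) * N * (r + 1) + r, ?_⟩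
    rintro z ⟨G, n, j, hj, hn, hG, rfl⟩
    haveI := hj
    have hnr := rank_le_of_mono (k := k) hE hG j
    have h1 := deg_le (k := k) hdim.le (CurveDeg.isCoh_of_rank hE) hG j
    have h2 : Curv2.deg k X G n ≤ h + r * (Curv2.genus k X : ℤ) := by
      have : (n : ℤ) ≤ r := by exact_mod_cast hnr
      have := mul_le_mul_of_nonneg_right this (Int.natCast_nonneg (Curv2.genus k X))
      show _ ≤ (Module.finrank k (Coh.HH X E 0) : ℤ) + _
      nlinarith [Int.natCast_nonneg n]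
    have h3 : (0 : ℤ) ≤ h + r * (Curv2.genus k X : ℤ) := by positivity
    have h4 : ((N / n : ℕ) : ℤ) ≤ N := by exact_mod_cast Nat.div_le_self _ _
    have h5 : Curv2.deg k X G n * ((N / n : ℕ) : ℤ) ≤ (h + r * (Curv2.genus k X : ℤ)) * N :=
      (mul_le_mul_of_nonneg_right h2 (Int.natCast_nonneg _)).trans (mul_le_mul_of_nonneg_left h4 h3)
    have h6 := mul_le_mul_of_nonneg_right h5 (by positivity : (0 : ℤ) ≤ r + 1)
    have : (n : ℤ) ≤ r := by exact_mod_cast hnr
    show _ * _ * _ + _ ≤ _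
    linarith
  obtain ⟨ub, ⟨E₁, r₁, i₁, hi₁, hr₁, hE₁, rfl⟩, hub⟩ :=
    Int.exists_greatest_of_bdd hbdd ⟨_, E, r, 𝟙 E, inferInstance, hr, hE, rfl⟩
  haveI := hi₁
  have hr₁r := rank_le_of_mono (k := k) hE hE₁ i₁
  have hbnd : ∀ (G : X.Modules) (n : ℕ) (j : G ⟶ E), Mono j → 0 < n → FlatMod.IsFinLocFreeOfRank n G →
      Curv2.deg k X G n * ((N / n : ℕ) : ℤ) ≤ Curv2.deg k X E₁ r₁ * ((N / r₁ : ℕ) : ℤ) ∧
      (Curv2.deg k X G n * ((N / n : ℕ) : ℤ) = Curv2.deg k X E₁ r₁ * ((N / r₁ : ℕ) : ℤ) → n ≤ r₁) := by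
    intro G n j hj hn hG
    have h := hub _ ⟨G, n, j, hj, hn, hG, rfl⟩
    have h' : (r₁ : ℤ) ≤ r := by exact_mod_cast hr₁r
    have h'' : (0 : ℤ) ≤ n := Int.natCast_nonneg n
    simp only [key] at h
    refine ⟨?_, fun he => ?_⟩
    · by_contra hc
      have hc' := mul_le_mul_of_nonneg_right (Int.add_one_le_iff.2 (not_le.1 hc)) (by positivity : (0 : ℤ) ≤ r + 1)
      linarith
    · rw [he] at h
      exact_mod_cast (le_of_add_le_add_left h)
  refine ⟨E₁, r₁, i₁, hi₁, hr₁, hE₁, fun G n j hj hn hG => ?_, fun G n j hj hn hG he => ?_⟩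
  · have hnr : n ≤ r := by haveI := hj; exact rank_le_of_mono (k := k) hE hG j
    have hN : (0 : ℤ) < N := by exact_mod_cast r.factorial_pos
    refine le_of_mul_le_mul_right ?_ hN
    calc Curv2.deg k X G n * (r₁ : ℤ) * N = Curv2.deg k X G n * ((N / n : ℕ) : ℤ) * (r₁ * n) := by
          rw [← hNn n hn hnr]; ring
      _ ≤ Curv2.deg k X E₁ r₁ * ((N / r₁ : ℕ) : ℤ) * (r₁ * n) :=
          mul_le_mul_of_nonneg_right (hbnd G n j hj hn hG).1 (by positivity)
      _ = Curv2.deg k X E₁ r₁ * (n : ℤ) * N := by rw [← hNn r₁ hr₁ hr₁r]; ring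
  · refine (hbnd G n j hj hn hG).2 ?_
    have hnr : n ≤ r := by haveI := hj; exact rank_le_of_mono (k := k) hE hG j
    refine mul_right_cancel₀ (b := ((r₁ : ℤ) * n)) (by positivity) ?_
    calc Curv2.deg k X G n * ((N / n : ℕ) : ℤ) * (r₁ * n) = Curv2.deg k X G n * (r₁ : ℤ) * N := by
          rw [← hNn n hn hnr]; ring
      _ = Curv2.deg k X E₁ r₁ * (n : ℤ) * N := by rw [he]
      _ = _ := by rw [← hNn r₁ hr₁ hr₁r]; ring

end Groth.Agent.CurveBound
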